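import Cfsg.Agent.H508.KB.Defs
import Cfsg.Agent.H684.BlockTools
import Cfsg.Agent.Lib.SubnormalJoin

/-!
# S4822, R1: reduction to a minimal normal subgroup of index prime to `p`
-/

set_option autoImplicit false

open Cfsg Subgroup Cfsg.Agent.H508.KB

namespace Cfsg.Agent.H774.KB

universe u

/-- An abelian normal Sylow `p`-subgroup is its own centralizer if there is no nontrivial normal `p'`-subgroup. -/
theorem cent_eq {G : Type u} [Group G] [Finite G] {p : ℕ} [hp : Fact p.Prime] (N : Subgroup G) [N.Normal]
    (hNp : IsPGroup p N) (hNc : ∀ x ∈ N, ∀ y ∈ N, x * y = y * x) (hcop : ¬ p ∣ N.index)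
    (hall : ∀ K : Subgroup G, K.Normal → ¬ p ∣ Nat.card K → K = ⊥) : centralizer (N : Set G) = N := by
  set C := centralizer (N : Set G) with hC
  have hNC : N ≤ C := fun x hx => mem_centralizer_iff.2 fun y hy => hNc y hy x hx
  have hCn : C.Normal := inferInstance
  have hPg : IsPGroup p (N.subgroupOf C) := by
    have h := hNp.comap_of_injective C.subtype C.subtype_injective
    exact h
  have hPi : ¬ p ∣ (N.subgroupOf C).index := fun h =>
    hcop (h.trans (relIndex_dvd_index_of_le hNC))
  set P : Sylow p C := hPg.toSylow hPi with hP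
  have hPC : ∀ x : C, x ∈ (P : Subgroup C) → ∀ y : C, x * y = y * x := by
    intro x hx y
    have hx' : (x : G) ∈ N := hx
    exact Subtype.ext (mem_centralizer_iff.1 y.2 x hx')
  have hPn : normalizer ((P : Subgroup C) : Set C) ≤ centralizer ((P : Subgroup C) : Set C) := by
    intro y _
    exact mem_centralizer_iff.2 fun x hx => hPC x hx y
  set K : Subgroup C := (MonoidHom.transferSylow P hPn).ker with hK
  have hKc := MonoidHom.not_dvd_card_ker_transferSylow P hPn
  have hcompl := MonoidHom.ker_transferSylow_isComplement' P hPn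
  have hmem : ∀ x : C, (orderOf x).Coprime p → x ∈ K := by
    intro x hx
    rw [hK, MonoidHom.mem_ker]
    have h1 : orderOf (MonoidHom.transferSylow P hPn x) ∣ orderOf x := orderOf_map_dvd _ _
    obtain ⟨k, hk⟩ := IsPGroup.iff_orderOf.1 P.isPGroup' (MonoidHom.transferSylow P hPn x)
    rw [hk] at h1
    have h2 : k = 0 := by
      by_contra h0
      have h3 : p ∣ orderOf x := (dvd_pow_self p h0).trans h1
      have h4 : p ∣ 1 := by
        rw [← hx]
        exact Nat.dvd_gcd h3 dvd_rfl
      exact hp.out.one_lt.ne' (Nat.dvd_one.1 h4)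
    rw [h2, pow_zero] at hk
    exact orderOf_eq_one_iff.1 hk
  have hKord : ∀ x : C, x ∈ K → (orderOf x).Coprime p := by
    intro x hx
    have h1 : orderOf x ∣ Nat.card K := by
      rw [← orderOf_mk x hx]
      exact orderOf_dvd_natCard _
    exact ((Nat.Prime.coprime_iff_not_dvd hp.out).2 fun h => hKc (h.trans h1)).symm
  have hKn : (K.map C.subtype).Normal := by
    constructor
    rintro _ ⟨k, hk, rfl⟩ g
    have h1 : g * C.subtype k * g⁻¹ ∈ C := hCn.conj_mem _ k.2 g
    refine ⟨⟨g * k * g⁻¹, h1⟩, hmem _ ?_, rfl⟩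
    have h2 := hKord k hk
    have h3 : orderOf (⟨g * k * g⁻¹, h1⟩ : C) = orderOf k := by
      rw [← orderOf_coe, ← orderOf_coe k]
      exact orderOf_injective (MulAut.conj g).toMonoidHom (MulAut.conj g).injective (k : G)
    rw [h3]
    exact h2
  have hKbot : K = ⊥ := by
    have h1 := hall _ hKn (by
      rw [Nat.card_congr (K.equivMapOfInjective C.subtype C.subtype_injective).toEquiv.symm]
      exact hKc)
    exact (map_eq_bot_iff_of_injective _ C.subtype_injective).1 h1
  rw [hK] at hKbot
  rw [hKbot] at hcompl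
  have hPtop : (P : Subgroup C) = ⊤ := isComplement'_bot_left.1 hcompl
  have hle : C ≤ N := by
    intro x hx
    have : (⟨x, hx⟩ : C) ∈ (P : Subgroup C) := by rw [hPtop]; exact mem_top _
    exact this
  exact le_antisymm hle hNC

variable {p : ℕ} [hp : Fact p.Prime] {M : Ideal AlgInt}

/-- R1: reduction to a unique minimal normal subgroup of index prime to `p`, with centralizer `1` or (abelian case) itself -/
theorem reduce (hM : IsPModular p M)
    (haff : ∀ (G : Type u) [Group G] [Finite G] (N : Subgroup G) [N.Normal],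
      (∀ K : Subgroup G, K.Normal → K ≤ N → K = ⊥ ∨ K = N) → N ≠ ⊥ → (∀ x ∈ N, ∀ y ∈ N, x * y = y * x) → IsPGroup p N →
      centralizer (N : Set G) = N → ¬ p ∣ N.index → 4 * (p - 1) ≤ kB M G ^ 2)
    (hnon : ∀ (G : Type u) [Group G] [Finite G] (N : Subgroup G) [N.Normal],
      (∀ K : Subgroup G, K.Normal → K ≤ N → K = ⊥ ∨ K = N) → N ≠ ⊥ → (¬ ∀ x ∈ N, ∀ y ∈ N, x * y = y * x) →
      centralizer (N : Set G) = ⊥ → ¬ p ∣ N.index → p ∣ Nat.card N → 4 * (p - 1) ≤ kB M G ^ 2)
    (G : Type u) [Group G] [Finite G] (hpG : p ∣ Nat.card G) : 4 * (p - 1) ≤ kB M G ^ 2 := by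
  obtain ⟨n, hn⟩ : ∃ n, Nat.card G = n := ⟨_, rfl⟩
  induction n using Nat.strong_induction_on generalizing G with
  | _ n ih =>
  subst hn
  -- a proper quotient of order divisible by `p`
  by_cases hq : ∃ K : Subgroup G, K.Normal ∧ K ≠ ⊥ ∧ p ∣ K.index
  · obtain ⟨K, hKn, hK, hKi⟩ := hq
    have h1 : Nat.card (G ⧸ K) < Nat.card G := by
      rw [← index_eq_card, ← K.card_mul_index]
      have h2 : 1 < Nat.card K := (one_lt_card_iff_ne_bot K).2 hK
      have h3 : 0 < K.index := Nat.pos_of_ne_zero K.index_ne_zero_of_finite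
      nlinarith
    have h2 := ih _ h1 (G ⧸ K) (by rw [← index_eq_card]; exact hKi) rfl
    have h3 : kB M (G ⧸ K) ≤ kB M G :=
      H684.BlockTools.card_le_of_surjective hM (QuotientGroup.mk' K) (QuotientGroup.mk'_surjective K)
    exact h2.trans (Nat.pow_le_pow_left h3 2)
  push Not at hq
  have hnt : Nontrivial G := by
    rw [← Finite.one_lt_card_iff_nontrivial]
    exact hp.out.one_lt.trans_le (Nat.le_of_dvd Nat.card_pos hpG)
  obtain ⟨N, hNn, hN, hmin⟩ := Lib.SubnormalJoin.exists_minimal_normal G
  have hcop : ¬ p ∣ N.index := hq N hNn hN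
  have hdN : p ∣ Nat.card N := by
    rw [← N.card_mul_index] at hpG
    exact (hp.out.dvd_mul.1 hpG).resolve_right hcop
  have hall : ∀ K : Subgroup G, K.Normal → ¬ p ∣ Nat.card K → K = ⊥ := by
    intro K hK hKc
    by_contra h0
    have h1 := hq K hK h0
    rw [← K.card_mul_index] at hpG
    rcases hp.out.dvd_mul.1 hpG with h | h
    · exact hKc h
    · exact h1 h
  by_cases hab : ∀ x ∈ N, ∀ y ∈ N, x * y = y * x
  · -- the elements of `p`-power order of `N` form a normal subgroup
    have hNp : IsPGroup p N := by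
      set T : Subgroup G :=
        { carrier := {x | x ∈ N ∧ ∃ k : ℕ, x ^ p ^ k = 1}
          one_mem' := ⟨one_mem _, 0, by simp⟩
          mul_mem' := by
            rintro x y ⟨hx, k, hk⟩ ⟨hy, l, hl⟩
            refine ⟨mul_mem hx hy, k + l, ?_⟩
            have hc : Commute x y := hab x hx y hy
            rw [hc.mul_pow, pow_add, pow_mul, hk, one_pow, mul_comm, pow_mul, hl, one_pow, one_mul]
          inv_mem' := by
            rintro x ⟨hx, k, hk⟩
            exact ⟨inv_mem hx, k, by rw [inv_pow, hk, inv_one]⟩ } with hT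
      have hTn : T.Normal := by
        constructor
        rintro x ⟨hx, k, hk⟩ g
        exact ⟨hNn.conj_mem x hx g, k, by rw [conj_pow, hk, mul_one, mul_inv_cancel]⟩
      have hTN : T ≤ N := fun x hx => hx.1
      have hTb : T ≠ ⊥ := by
        obtain ⟨x, hx⟩ := exists_prime_orderOf_dvd_card' (G := N) p hdN
        intro hb
        have h1 : (x : G) ∈ T := ⟨x.2, 1, by
          rw [pow_one, ← hx, ← orderOf_coe]
          exact pow_orderOf_eq_one _⟩
        rw [hb, mem_bot] at h1
        have h2 : x = 1 := Subtype.ext h1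
        rw [h2, orderOf_one] at hx
        exact hp.out.ne_one hx.symm
      have hTe : T = N := (hmin T hTn hTN).resolve_left hTb
      intro x
      have hx : (x : G) ∈ T := by rw [hTe]; exact x.2
      obtain ⟨k, hk⟩ := hx.2
      exact ⟨k, Subtype.ext hk⟩
    exact haff G N hmin hN hab hNp (cent_eq N hNp hab hcop hall) hcop
  · have hdis : centralizer (N : Set G) ⊓ N = ⊥ := by
      rcases hmin (centralizer (N : Set G) ⊓ N) inferInstance inf_le_right with h | h
      · exact h
      · exfalso
        apply hab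
        intro x hx y hy
        have hy' : y ∈ centralizer (N : Set G) := by
          rw [← h] at hy
          exact hy.1
        exact mem_centralizer_iff.1 hy' x hx
    have hC : centralizer (N : Set G) = ⊥ := by
      by_contra h0
      have h1 := hq _ inferInstance h0
      apply h1
      refine hdN.trans ?_
      -- `N` embeds in `G / C`
      set f : N →* G ⧸ centralizer (N : Set G) := (QuotientGroup.mk' _).comp N.subtype with hf
      have hinj : Function.Injective f := by
        rw [injective_iff_map_eq_one]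
        intro x hx
        have h2 : (x : G) ∈ centralizer (N : Set G) := (QuotientGroup.eq_one_iff _).1 hx
        have h3 : (x : G) ∈ centralizer (N : Set G) ⊓ N := ⟨h2, x.2⟩
        rw [hdis, mem_bot] at h3
        exact Subtype.ext h3
      rw [index_eq_card]
      exact card_dvd_of_injective f hinj
    exact hnon G N hmin hN hab hC hcop hdN

end Cfsg.Agent.H774.KB
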